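import Mathlib

/-!
`det(1 - t f)` for endomorphisms of finite free modules and its alternating product on an
exact complex of finite free modules.
-/

set_option autoImplicit false
universe u v

open Polynomial TensorProduct

namespace Groth.Agent.H18Det

variable {A : Type u} [CommRing A]

/-- `det(1 - t f)`. -/
noncomputable def Dt {M : Type v} [AddCommGroup M] [Module A M] (f : M →ₗ[A] M) : A[X] :=
  LinearMap.det (LinearMap.id - (X : A[X]) • f.baseChange A[X])

section
variable {M : Type v} [AddCommGroup M] [Module A M]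
variable {N : Type v} [AddCommGroup N] [Module A N]

lemma Dt_eq_charpolyRev {ι : Type*} [Fintype ι] [DecidableEq ι] (b : Module.Basis ι A M)
    (f : M →ₗ[A] M) : Dt f = (LinearMap.toMatrix b b f).charpolyRev := by
  unfold Dt
  rw [← LinearMap.det_toMatrix (Algebra.TensorProduct.basis A[X] b), Matrix.charpolyRev]
  congr 1
  ext i j : 1
  simp [LinearMap.toMatrix_apply, Matrix.one_apply, Finsupp.single_apply, eq_comm]

lemma Dt_of_subsingleton [Subsingleton M] (f : M →ₗ[A] M) : Dt f = 1 := by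
  rw [Dt_eq_charpolyRev (Module.Basis.empty M (ι := Fin 0)), Matrix.charpolyRev,
    Matrix.det_isEmpty]

lemma Dt_conj [Module.Finite A M] [Module.Free A M] (e : M ≃ₗ[A] N) (f : M →ₗ[A] M) (g : N →ₗ[A] N)
    (h : ∀ x, e (f x) = g (e x)) : Dt g = Dt f := by
  classical
  let b := Module.Free.chooseBasis A M
  rw [Dt_eq_charpolyRev b, Dt_eq_charpolyRev (b.map e)]
  congr 1
  ext i j
  simp [LinearMap.toMatrix_apply, ← h]

lemma Dt_prod [Module.Finite A M] [Module.Free A M] [Module.Finite A N] [Module.Free A N]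
    (f : M →ₗ[A] M) (τ : N →ₗ[A] M) (g : N →ₗ[A] N) (F : M × N →ₗ[A] M × N)
    (h : ∀ x y, F (x, y) = (f x + τ y, g y)) : Dt F = Dt f * Dt g := by
  classical
  let b := Module.Free.chooseBasis A M
  let c := Module.Free.chooseBasis A N
  rw [Dt_eq_charpolyRev (b.prod c), Dt_eq_charpolyRev b, Dt_eq_charpolyRev c]
  have hF : LinearMap.toMatrix (b.prod c) (b.prod c) F =
      Matrix.fromBlocks (LinearMap.toMatrix b b f) (LinearMap.toMatrix c b τ) 0
        (LinearMap.toMatrix c c g) := by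
    ext i j
    cases i <;> cases j <;>
      simp [LinearMap.toMatrix_apply, h, Module.Basis.prod_apply]
  rw [hF]
  simp only [Matrix.charpolyRev]
  rw [← Matrix.det_fromBlocks_zero₂₁ _ (-((X : A[X]) • (LinearMap.toMatrix c b τ).map C))]
  congr 1
  ext i j
  cases i <;> cases j <;> simp [Matrix.one_apply]

lemma Dt_prod' [Module.Finite A M] [Module.Free A M] [Module.Finite A N] [Module.Free A N]
    (f : M →ₗ[A] M) (τ : M →ₗ[A] N) (g : N →ₗ[A] N) (F : M × N →ₗ[A] M × N)
    (h : ∀ x y, F (x, y) = (f x, τ x + g y)) : Dt F = Dt f * Dt g := by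
  rw [mul_comm]
  let e : (M × N) ≃ₗ[A] (N × M) := LinearEquiv.prodComm A M N
  let G : N × M →ₗ[A] N × M := e.toLinearMap.comp (F.comp e.symm.toLinearMap)
  rw [← Dt_prod g τ f G (fun x y => by simp [G, e, h, add_comm])]
  exact (Dt_conj e F G (fun x => by simp [G])).symm

end

/-- A complex of finite free modules `⋯ → C 1 → C 0 → 0` which is exact, with an endomorphism. -/
structure ExactData (A : Type u) [CommRing A] where
  C : ℕ → Type v
  [acg : ∀ k, AddCommGroup (C k)]
  [mod : ∀ k, Module A (C k)]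
  [fin : ∀ k, Module.Finite A (C k)]
  [free : ∀ k, Module.Free A (C k)]
  d : ∀ k, C (k + 1) →ₗ[A] C k
  w : ∀ k, C k →ₗ[A] C k
  comm : ∀ k x, w k (d k x) = d k (w (k + 1) x)
  surj : Function.Surjective (d 0)
  dd : ∀ k x, d k (d (k + 1) x) = 0
  ex : ∀ k x, d k x = 0 → ∃ y, d (k + 1) y = x

attribute [instance] ExactData.acg ExactData.mod ExactData.fin ExactData.free

/-- `E x n = ∏_{k ≤ n even} x k`, `O x n = ∏_{k ≤ n odd} x k`. -/
def E {R : Type*} [CommMonoid R] : (ℕ → R) → ℕ → R
  | x, 0 => x 0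
  | x, 1 => x 0
  | x, n + 2 => x 0 * E (fun k => x (k + 2)) n

def O {R : Type*} [CommMonoid R] : (ℕ → R) → ℕ → R
  | _, 0 => 1
  | x, n + 1 => E (fun k => x (k + 1)) n

lemma E_succ {R : Type*} [CommMonoid R] (n : ℕ) (x : ℕ → R) :
    E x (n + 1) = x 0 * O (fun k => x (k + 1)) n := by
  cases n with
  | zero => simp [E, O]
  | succ n => simp [E, O]

namespace ExactData

variable (S : ExactData.{u, v} A)

/-- splice off the last module -/
noncomputable def next (σ : S.C 0 →ₗ[A] S.C 1) (hσ : ∀ y, S.d 0 (σ y) = y)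
    (τ : S.C 0 →ₗ[A] S.C 2) (hτ : ∀ y, S.d 1 (τ y) = S.w 1 (σ y) - σ (S.w 0 y)) :
    ExactData.{u, v} A where
  C k := match k with
    | 0 => S.C 1
    | 1 => S.C 2 × S.C 0
    | j + 2 => S.C (j + 3)
  acg k := match k with
    | 0 => S.acg 1
    | 1 => inferInstanceAs (AddCommGroup (S.C 2 × S.C 0))
    | j + 2 => S.acg (j + 3)
  mod k := match k with
    | 0 => S.mod 1
    | 1 => inferInstanceAs (Module A (S.C 2 × S.C 0))
    | j + 2 => S.mod (j + 3)
  fin k := match k with
    | 0 => S.fin 1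
    | 1 => inferInstanceAs (Module.Finite A (S.C 2 × S.C 0))
    | j + 2 => S.fin (j + 3)
  free k := match k with
    | 0 => S.free 1
    | 1 => inferInstanceAs (Module.Free A (S.C 2 × S.C 0))
    | j + 2 => S.free (j + 3)
  d k := match k with
    | 0 => LinearMap.coprod (S.d 1) σ
    | 1 => LinearMap.prod (S.d 2) 0
    | j + 2 => S.d (j + 3)
  w k := match k with
    | 0 => S.w 1
    | 1 => LinearMap.prod (LinearMap.coprod (S.w 2) τ) ((S.w 0).comp (LinearMap.snd A _ _))
    | j + 2 => S.w (j + 3)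
  comm k := match k with
    | 0 => fun x => by
        change S.w 1 (S.d 1 x.1 + σ x.2) = S.d 1 (S.w 2 x.1 + τ x.2) + σ (S.w 0 x.2)
        rw [map_add, map_add, S.comm, hτ]
        abel
    | 1 => fun (x : S.C 3) => by
        change ((S.w 2 (S.d 2 x) + τ 0, S.w 0 0) : S.C 2 × S.C 0) = (S.d 2 (S.w 3 x), 0)
        rw [S.comm, map_zero, map_zero, add_zero]
    | j + 2 => S.comm (j + 3)
  surj := fun (x : S.C 1) => by
    obtain ⟨y, hy⟩ := S.ex 0 (x - σ (S.d 0 x)) (by rw [map_sub, hσ, sub_self])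
    refine ⟨(y, S.d 0 x), ?_⟩
    change S.d 1 y + σ (S.d 0 x) = x
    rw [hy, sub_add_cancel]
  dd k := match k with
    | 0 => fun (x : S.C 3) => by
        change S.d 1 (S.d 2 x) + σ 0 = 0
        rw [S.dd, map_zero, add_zero]
    | 1 => fun (x : S.C 4) => by
        change ((S.d 2 (S.d 3 x), 0) : S.C 2 × S.C 0) = 0
        rw [S.dd]; rfl
    | j + 2 => S.dd (j + 3)
  ex k := match k with
    | 0 => fun (x : S.C 2 × S.C 0) (hx : S.d 1 x.1 + σ x.2 = 0) => by
        have h0 : x.2 = 0 := by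
          have := congrArg (S.d 0) hx
          rwa [map_add, S.dd, hσ, zero_add, map_zero] at this
        obtain ⟨y, hy⟩ := S.ex 1 x.1 (by rwa [h0, map_zero, add_zero] at hx)
        exact ⟨y, Prod.ext hy h0.symm⟩
    | 1 => fun (x : S.C 3) hx => S.ex 2 x (congrArg Prod.fst hx)
    | j + 2 => S.ex (j + 3)

/-- The alternating product of `det(1 - t w)` on an exact complex is `1`. -/
theorem alt_eq : ∀ (n : ℕ) (S : ExactData.{u, v} A), (∀ k, n < k → Subsingleton (S.C k)) →
    E (fun k => Dt (S.w k)) n = O (fun k => Dt (S.w k)) n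
  | 0, S, h => by
    have := h 1 (by omega)
    have : Subsingleton (S.C 0) := S.surj.subsingleton
    simp [E, O, Dt_of_subsingleton]
  | 1, S, h => by
    have := h 2 (by omega)
    let e : S.C 1 ≃ₗ[A] S.C 0 := LinearEquiv.ofBijective (S.d 0) ⟨by
      rw [← LinearMap.ker_eq_bot, eq_bot_iff]
      intro x hx
      obtain ⟨y, hy⟩ := S.ex 0 x hx
      rw [Subsingleton.elim y 0, map_zero] at hy
      exact hy.symm, S.surj⟩
    simp only [E, O]
    exact Dt_conj e (S.w 1) (S.w 0) (fun x => (S.comm 0 x).symm)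
  | m + 2, S, h => by
    obtain ⟨σ, hσ'⟩ := Module.projective_lifting_property (S.d 0) LinearMap.id S.surj
    have hσ : ∀ y, S.d 0 (σ y) = y := LinearMap.congr_fun hσ'
    let r : S.C 0 →ₗ[A] LinearMap.range (S.d 1) :=
      LinearMap.codRestrict _ ((S.w 1).comp σ - σ.comp (S.w 0)) fun y => by
        obtain ⟨z, hz⟩ := S.ex 0 (S.w 1 (σ y) - σ (S.w 0 y))
          (by rw [map_sub, ← S.comm, hσ, hσ, sub_self])
        exact ⟨z, hz⟩
    obtain ⟨τ, hτ'⟩ := Module.projective_lifting_property (S.d 1).rangeRestrict r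
      (LinearMap.surjective_rangeRestrict _)
    have hτ : ∀ y, S.d 1 (τ y) = S.w 1 (σ y) - σ (S.w 0 y) := fun y =>
      congrArg Subtype.val (LinearMap.congr_fun hτ' y)
    let T := S.next σ hσ τ hτ
    have ih := alt_eq (m + 1) T fun k hk => by
      match k, hk with
      | j + 2, hj => exact h (j + 3) (by omega)
    have h1 : Dt (T.w 1) = Dt (S.w 2) * Dt (S.w 0) :=
      Dt_prod (S.w 2) τ (S.w 0) (T.w 1) (fun _ _ => rfl)
    have h0 : Dt (T.w 0) = Dt (S.w 1) := rfl
    have hj : ∀ j, Dt (T.w (j + 2)) = Dt (S.w (j + 3)) := fun _ => rfl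
    rw [E_succ] at ih
    simp only [O] at ih
    rw [E_succ (m + 1)]
    simp only [O]
    rw [E_succ m]
    cases m with
    | zero =>
      simp only [E, O, h0, h1] at ih ⊢
      simp only [mul_one] at ih ⊢
      rw [ih, mul_comm]
    | succ l =>
      rw [E_succ] at ih ⊢
      simp only [O, h0, h1, hj] at ih ⊢
      calc _ = (Dt (S.w 2) * Dt (S.w 0)) * O (fun k => Dt (S.w (k + 3))) l := by
            simp only [O]; ring
        _ = _ := ih.symm

end ExactData

end Groth.Agent.H18Det
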