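import Groth.Prelude.Def_SGA4hB
import Groth.Agent.H18Det.Basic

/-!
`det(1 - t u)` is a homotopy invariant of bounded complexes of finite free modules.
-/

set_option autoImplicit false
universe u

open CategoryTheory Polynomial

attribute [local instance] HasDerivedCategory.standard

namespace Groth.Agent.H18Det

variable {A : Type u} [CommRing A]

/-- A homotopy equivalence compatible with the endomorphisms up to homotopy. -/
structure HData (K K' : CochainComplex (ModuleCat.{u} A) ℤ) (u : K ⟶ K) (u' : K' ⟶ K') where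
  h : K ⟶ K'
  g : K' ⟶ K
  hg : Homotopy (h ≫ g) (𝟙 K)
  gh : Homotopy (g ≫ h) (𝟙 K')
  S : Homotopy (u ≫ h) (h ≫ u')

lemma homotopyData (K K' : CochainComplex (ModuleCat.{u} A) ℤ) [K.IsKProjective] [K'.IsKProjective]
    (u : K ⟶ K) (u' : K' ⟶ K') (φ : DerivedCategory.Q.obj K ≅ DerivedCategory.Q.obj K')
    (hφ : DerivedCategory.Q.map u ≫ φ.hom = φ.hom ≫ DerivedCategory.Q.map u') :
    Nonempty (HData K K' u u') := by
  let Qu := HomotopyCategory.quotient (ModuleCat.{u} A) (ComplexShape.up ℤ)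
  let e := DerivedCategory.quotientCompQhIso (ModuleCat.{u} A)
  obtain ⟨h', hh'⟩ := (CochainComplex.IsKProjective.Qh_map_bijective K (Qu.obj K')).surjective
    (e.hom.app K ≫ φ.hom ≫ e.inv.app K')
  obtain ⟨g', hg'⟩ := (CochainComplex.IsKProjective.Qh_map_bijective K' (Qu.obj K)).surjective
    (e.hom.app K' ≫ φ.inv ≫ e.inv.app K)
  obtain ⟨h, rfl⟩ := Qu.map_surjective h'
  obtain ⟨g, rfl⟩ := Qu.map_surjective g'
  have nat : ∀ {L L' : CochainComplex (ModuleCat.{u} A) ℤ} (f : L ⟶ L'),
      DerivedCategory.Qh.map (Qu.map f) = e.hom.app L ≫ DerivedCategory.Q.map f ≫ e.inv.app L' := by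
    intro L L' f
    rw [← Category.assoc, ← e.hom.naturality f, Category.assoc, Iso.hom_inv_id_app, Category.comp_id]
    rfl
  have e1 : DerivedCategory.Q.map h = φ.hom := by
    rw [nat] at hh'
    rwa [cancel_epi, cancel_mono] at hh'
  have e2 : DerivedCategory.Q.map g = φ.inv := by
    rw [nat] at hg'
    rwa [cancel_epi, cancel_mono] at hg'
  have key : ∀ {L L' : CochainComplex (ModuleCat.{u} A) ℤ} [L.IsKProjective] (f f' : L ⟶ L'),
      DerivedCategory.Q.map f = DerivedCategory.Q.map f' → Nonempty (Homotopy f f') := by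
    intro L L' _ f f' hf
    refine ⟨HomotopyCategory.homotopyOfEq _ _
      ((CochainComplex.IsKProjective.Qh_map_bijective L _).injective ?_)⟩
    exact (nat f).trans ((congrArg (fun t => e.hom.app L ≫ t ≫ e.inv.app L') hf).trans (nat f').symm)
  exact ⟨⟨h, g, (key _ _ (by simp [e1, e2])).some, (key _ _ (by simp [e1, e2])).some,
    (key _ _ (by simp [e1, hφ])).some⟩⟩

/-- Degrees counted downwards from `N + 1`. -/
def pos (N : ℤ) : ℕ → ℤ
  | 0 => N + 1
  | k + 1 => pos N k - 1

lemma pos_eq (N : ℤ) (k : ℕ) : pos N k = N + 1 - k := by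
  induction k with
  | zero => simp [pos]
  | succ k ih => simp [pos, ih]; ring

lemma comm_apply {K L : CochainComplex (ModuleCat.{u} A) ℤ} {f f' : K ⟶ L} (H : Homotopy f f')
    {i j m : ℤ} (hij : i + 1 = j) (hmi : m + 1 = i) (x : K.X i) :
    (f.f i).hom x = (H.hom j i).hom ((K.d i j).hom x) + (L.d m i).hom ((H.hom i m).hom x) +
      (f'.f i).hom x := by
  have := H.comm i
  rw [dNext_eq _ (show (ComplexShape.up ℤ).Rel i j from hij),
    prevD_eq _ (show (ComplexShape.up ℤ).Rel m i from hmi)] at this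
  exact congrArg (fun t : K.X i ⟶ L.X i => t.hom x) this

variable {K K' : CochainComplex (ModuleCat.{u} A) ℤ} {u : K ⟶ K} {u' : K' ⟶ K'}

lemma f_d {f : K ⟶ K'} (i j : ℤ) (x : K.X i) :
    (f.f j).hom ((K.d i j).hom x) = (K'.d i j).hom ((f.f i).hom x) :=
  congrArg (fun t : K.X i ⟶ K'.X j => t.hom x) (f.comm i j).symm

lemma d_d (L : CochainComplex (ModuleCat.{u} A) ℤ) (i j k : ℤ) (x : L.X i) :
    (L.d j k).hom ((L.d i j).hom x) = 0 :=
  congrArg (fun t : L.X i ⟶ L.X k => t.hom x) (L.d_comp_d i j k)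

/-- The cone of `H.h`, indexed downwards. -/
noncomputable def coneData [∀ i, Module.Finite A (K.X i)] [∀ i, Module.Free A (K.X i)]
    [∀ i, Module.Finite A (K'.X i)] [∀ i, Module.Free A (K'.X i)]
    (H : HData K K' u u') (N : ℤ)
    (h0 : Subsingleton (K.X (pos N 0) × K'.X (pos N 1))) : ExactData.{u, u} A where
  C k := K.X (pos N k) × K'.X (pos N (k + 1))
  d k :=
    { toFun := fun x => (-(K.d (pos N (k + 1)) (pos N k)).hom x.1,
        (H.h.f (pos N (k + 1))).hom x.1 + (K'.d (pos N (k + 2)) (pos N (k + 1))).hom x.2)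
      map_add' := fun x y => by
        ext <;> simp [add_comm, add_left_comm, add_assoc]
      map_smul' := fun r x => by
        ext <;> simp }
  w k :=
    { toFun := fun x => ((u.f (pos N k)).hom x.1,
        -(H.S.hom (pos N k) (pos N (k + 1))).hom x.1 + (u'.f (pos N (k + 1))).hom x.2)
      map_add' := fun x y => by
        ext <;> simp [add_comm, add_left_comm, add_assoc]
      map_smul' := fun r x => by
        ext <;> simp }
  comm k x := by
    obtain ⟨x, y⟩ := x
    refine Prod.ext ?_ ?_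
    · simp only [LinearMap.coe_mk, AddHom.coe_mk]
      rw [map_neg, f_d]
    · simp only [LinearMap.coe_mk, AddHom.coe_mk]
      have := comm_apply H.S (i := pos N (k + 1)) (j := pos N k) (m := pos N (k + 2))
        (by simp [pos]) (by simp [pos]) x
      simp only [HomologicalComplex.comp_f, ModuleCat.hom_comp, LinearMap.comp_apply] at this
      rw [this]
      simp only [map_neg, map_add, f_d]
      abel
  surj := fun y => ⟨0, Subsingleton.elim _ _⟩
  dd k x := by
    refine Prod.ext ?_ ?_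
    · simp only [LinearMap.coe_mk, AddHom.coe_mk, map_neg, d_d]
      simp
    · simp only [LinearMap.coe_mk, AddHom.coe_mk, map_neg, map_add, f_d, d_d]
      simp
  ex k x hx := by
    obtain ⟨x, y⟩ := x
    simp only [LinearMap.coe_mk, AddHom.coe_mk, Prod.mk_eq_zero, neg_eq_zero] at hx
    obtain ⟨hdx, hxy⟩ := hx
    have hp : ∀ j, pos N (j + 1) + 1 = pos N j := fun j => by simp [pos]
    have e1 := comm_apply H.hg (hp k) (hp (k + 1)) x
    simp only [HomologicalComplex.comp_f, HomologicalComplex.id_f, ModuleCat.hom_comp,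
      LinearMap.comp_apply, ModuleCat.hom_id, LinearMap.id_apply, hdx, map_zero, zero_add] at e1
    have hxy' := (add_comm _ _).trans hxy
    set x'' : K.X (pos N (k + 2)) :=
      (H.g.f (pos N (k + 2))).hom y + (H.hg.hom (pos N (k + 1)) (pos N (k + 2))).hom x with hx''
    have hd'' : (K.d (pos N (k + 2)) (pos N (k + 1))).hom x'' = -x := by
      rw [hx'', map_add, ← f_d, eq_neg_iff_add_eq_zero, add_assoc, ← e1, ← map_add,
        hxy', map_zero]
    set y2 : K'.X (pos N (k + 2)) := y - (H.h.f (pos N (k + 2))).hom x'' with hy2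
    have hdy2 : (K'.d (pos N (k + 2)) (pos N (k + 1))).hom y2 = 0 := by
      rw [hy2, map_sub, ← f_d, hd'', map_neg, sub_neg_eq_add]
      exact hxy'
    have e2 := comm_apply H.gh (hp (k + 1)) (hp (k + 2)) y2
    simp only [HomologicalComplex.comp_f, HomologicalComplex.id_f, ModuleCat.hom_comp,
      LinearMap.comp_apply, ModuleCat.hom_id, LinearMap.id_apply, hdy2, map_zero, zero_add] at e2
    refine ⟨(x'' + (H.g.f (pos N (k + 2))).hom y2,
      -(H.gh.hom (pos N (k + 2)) (pos N (k + 3))).hom y2), Prod.ext ?_ ?_⟩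
    · simp only [LinearMap.coe_mk, AddHom.coe_mk]
      rw [map_add, ← f_d, hdy2, map_zero, add_zero, hd'', neg_neg]
    · simp only [LinearMap.coe_mk, AddHom.coe_mk]
      rw [map_add, map_neg, e2, hy2]
      abel

lemma finprod_parity (N : ℤ) (n : ℕ) (p : ℤ → Prop) (q : ℕ → Prop) [DecidablePred q] (f : ℤ → A[X])
    (hpq : ∀ k : ℕ, p (pos N k) ↔ q k) (hf : ∀ i, f i ≠ 1 → ∃ k, k ≤ n ∧ pos N k = i) :
    ∏ᶠ i : {i : ℤ // p i}, f i.1 = ∏ k ∈ (Finset.range (n + 1)).filter q, f (pos N k) := by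
  rw [finprod_subtype_eq_finprod_cond p (f := f), finprod_cond_eq_prod_of_cond_iff f
    (t := ((Finset.range (n + 1)).filter q).image (pos N)) (fun {x} hx => ?_), Finset.prod_image]
  · intro i _ j _ hij
    simp only [pos_eq] at hij
    omega
  · obtain ⟨k, hk, rfl⟩ := hf x hx
    simp only [Finset.mem_image, Finset.mem_filter, Finset.mem_range]
    refine ⟨fun h => ⟨k, ⟨by omega, (hpq k).1 h⟩, rfl⟩, ?_⟩
    rintro ⟨j, ⟨_, hj⟩, hjk⟩
    rw [← hjk]
    exact (hpq j).2 hj

lemma E_O_eq_prod {R : Type*} [CommMonoid R] : ∀ (n : ℕ) (x : ℕ → R),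
    E x n = ∏ k ∈ (Finset.range (n + 1)).filter Even, x k ∧
      O x n = ∏ k ∈ (Finset.range (n + 1)).filter (fun k => Odd k), x k
  | 0, x => by simp [E, O, Finset.prod_filter]
  | n + 1, x => by
    obtain ⟨hE, hO⟩ := E_O_eq_prod n (fun k => x (k + 1))
    constructor
    · rw [E_succ, hO, Finset.prod_filter, Finset.prod_filter, Finset.prod_range_succ' _ (n + 1),
        mul_comm]
      simp [parity_simps]
    · rw [O, hE, Finset.prod_filter, Finset.prod_filter, Finset.prod_range_succ' _ (n + 1)]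
      simp [parity_simps]

theorem detEven_mul_eq (K K' : CochainComplex (ModuleCat.{u} A) ℤ)
    [∀ i, Module.Finite A (K.X i)] [∀ i, Module.Free A (K.X i)]
    [∀ i, Module.Finite A (K'.X i)] [∀ i, Module.Free A (K'.X i)]
    (b : ℤ) (hb : ∀ i, b < i → Limits.IsZero (K.X i)) (hb' : ∀ i, b < i → Limits.IsZero (K'.X i))
    (a : ℤ) (ha : ∀ i, i < a → Limits.IsZero (K.X i)) (ha' : ∀ i, i < a → Limits.IsZero (K'.X i))
    (u : K ⟶ K) (u' : K' ⟶ K') (H : HData K K' u u') :
    SGA4h.detEven K u * SGA4h.detOdd K' u' = SGA4h.detOdd K u * SGA4h.detEven K' u' := by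
  -- an odd `N ≥ b + 1`
  let N : ℤ := 2 * |b| + 3
  have hN : b < N := by have := le_abs_self b; have := abs_nonneg b; omega
  have hNodd : Odd N := ⟨|b| + 1, by ring⟩
  let n : ℕ := (N + 1 - a).toNat + 2
  have ss : ∀ {L : CochainComplex (ModuleCat.{u} A) ℤ} {i : ℤ}, Limits.IsZero (L.X i) →
      Subsingleton (L.X i) := fun h => ModuleCat.subsingleton_of_isZero h
  have h0 : Subsingleton (K.X (pos N 0) × K'.X (pos N 1)) := by
    have := ss (hb (pos N 0) (by simp [pos]; omega))
    have := ss (hb' (pos N 1) (by simp [pos]; omega))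
    infer_instance
  have key := ExactData.alt_eq n (coneData H N h0) fun k hk => by
    have := ss (ha (pos N k) (by rw [pos_eq]; omega))
    have := ss (ha' (pos N (k + 1)) (by rw [pos_eq]; omega))
    exact inferInstanceAs (Subsingleton (K.X (pos N k) × K'.X (pos N (k + 1))))
  have hsplit : ∀ k, Dt ((coneData H N h0).w k) =
      SGA4h.detOneSub (K.X (pos N k)) (u.f (pos N k)) *
        SGA4h.detOneSub (K'.X (pos N (k + 1))) (u'.f (pos N (k + 1))) := fun k =>
    Dt_prod' (u.f (pos N k)).hom (-(H.S.hom (pos N k) (pos N (k + 1))).hom)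
      (u'.f (pos N (k + 1))).hom ((coneData H N h0).w k) (fun _ _ => rfl)
  rw [(E_O_eq_prod n _).1, (E_O_eq_prod n _).2] at key
  simp only [hsplit, Finset.prod_mul_distrib] at key
  have one : ∀ (L : CochainComplex (ModuleCat.{u} A) ℤ) (v : L ⟶ L) (i : ℤ),
      Limits.IsZero (L.X i) → SGA4h.detOneSub (L.X i) (v.f i) = 1 := fun L v i h => by
    have := ss h
    exact Dt_of_subsingleton _
  have supp : ∀ (L : CochainComplex (ModuleCat.{u} A) ℤ) (v : L ⟶ L),
      (∀ i, b < i → Limits.IsZero (L.X i)) → (∀ i, i < a → Limits.IsZero (L.X i)) →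
      ∀ (M : ℤ), (M = N ∨ M = N - 1) → ∀ i, SGA4h.detOneSub (L.X i) (v.f i) ≠ 1 →
        ∃ k, k ≤ n ∧ pos M k = i := by
    intro L v h1 h2 M hM i hi
    have : a ≤ i ∧ i ≤ b := by
      constructor <;> by_contra h
      · exact hi (one L v i (h2 i (by omega)))
      · exact hi (one L v i (h1 i (by omega)))
    exact ⟨(M + 1 - i).toNat, by omega, by rw [pos_eq]; omega⟩
  have hpos : ∀ k, pos N (k + 1) = pos (N - 1) k := fun k => by rw [pos_eq, pos_eq]; push_cast; ring
  have parE : ∀ k : ℕ, (Even (pos N k) ↔ Even k) ∧ (Odd (pos N k) ↔ Odd k) ∧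
      (Odd (pos (N - 1) k) ↔ Even k) ∧ (Even (pos (N - 1) k) ↔ Odd k) := fun k => by
    obtain ⟨m, hm⟩ := hNodd
    simp only [pos_eq, hm, parity_simps, Int.even_coe_nat, Int.odd_coe_nat]
    simp
  unfold SGA4h.detEven SGA4h.detOdd
  rw [finprod_parity N n Even Even (fun i => SGA4h.detOneSub (K.X i) (u.f i)) (fun k => (parE k).1)
      (supp K u hb ha N (.inl rfl)),
    finprod_parity (N - 1) n Odd Even (fun i => SGA4h.detOneSub (K'.X i) (u'.f i))
      (fun k => (parE k).2.2.1) (supp K' u' hb' ha' (N - 1) (.inr rfl)),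
    finprod_parity N n Odd (fun k => Odd k) (fun i => SGA4h.detOneSub (K.X i) (u.f i))
      (fun k => (parE k).2.1) (supp K u hb ha N (.inl rfl)),
    finprod_parity (N - 1) n Even (fun k => Odd k) (fun i => SGA4h.detOneSub (K'.X i) (u'.f i))
      (fun k => (parE k).2.2.2) (supp K' u' hb' ha' (N - 1) (.inr rfl))]
  have hc : ∀ k, SGA4h.detOneSub (K'.X (pos N (k + 1))) (u'.f (pos N (k + 1))) =
      SGA4h.detOneSub (K'.X (pos (N - 1) k)) (u'.f (pos (N - 1) k)) := fun k =>
    congrArg (fun i => SGA4h.detOneSub (K'.X i) (u'.f i)) (hpos k)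
  simpa only [hc] using key

end Groth.Agent.H18Det
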